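/-
Galois stable finite subgroups of abelian varieties.
-/
import Groth.Agent.L26.AV.Degree
import Groth.Agent.L08.AbelianGrp
import Groth.Agent.L26.KL.RankScheme
import Groth.Prelude.Def_SGA7a
import Mathlib.FieldTheory.IsAlgClosed.AlgebraicClosure
import Mathlib.FieldTheory.Normal.Basic

/-!
# A Galois stable group of torsion points is the group of points of a closed subgroup

The underlying closed points of the torsion points cut out a clopen part of the torsion subscheme.
-/

set_option autoImplicit false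
set_option linter.style.haveILetI false
set_option backward.isDefEq.respectTransparency.types false

universe u

open CategoryTheory CategoryTheory.Limits MonoidalCategory CartesianMonoidalCategory AlgebraicGeometry
open scoped MonObj

noncomputable section

namespace Groth.Agent.Tate.GalSubgroup

variable {k : Type u} [Field k] {Ω : Type u} [Field Ω] [Algebra k Ω]

/-- A finite scheme over a field is discrete. -/
theorem discrete (T : Over (Spec (CommRingCat.of k))) [IsFinite T.hom] : DiscreteTopology T.left := by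
  letI := Groth.Agent.KLRank.gamma T
  haveI : Module.Finite k Γ(T.left, ⊤) := Groth.Agent.KLRank.finite_al T
  haveI : IsAffine T.left := Groth.Agent.KLRank.isAffine_of_finite T
  haveI : IsArtinianRing Γ(T.left, ⊤) := IsArtinianRing.of_finite k _
  haveI : DiscreteTopology (Spec Γ(T.left, ⊤)) := inferInstanceAs (DiscreteTopology (PrimeSpectrum _))
  exact T.left.isoSpec.hom.homeomorph.symm.discreteTopology

/-- The point of a geometric point. -/
abbrev pnt {T : Over (Spec (CommRingCat.of k))} (x : SGA7.pt Ω ⟶ T) : T.left :=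
  x.left (IsLocalRing.closedPoint Ω)

/-- A geometric point through a point of a finite scheme. -/
theorem exists_pt [IsAlgClosed Ω] (T : Over (Spec (CommRingCat.of k))) [IsFinite T.hom] (p : T.left) :
    ∃ z : SGA7.pt Ω ⟶ T, pnt z = p := by
  haveI := discrete T
  haveI : IsClosedImmersion (T.left.fromSpecResidueField p) :=
    (isClosed_singleton_iff_isClosedImmersion).1 (isClosed_discrete _)
  let φ : CommRingCat.of k ⟶ T.left.residueField p := Spec.preimage (T.left.fromSpecResidueField p ≫ T.hom)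
  have hφ : Spec.map φ = T.left.fromSpecResidueField p ≫ T.hom := Spec.map_preimage _
  have hfin : φ.hom.Finite := by
    rw [← IsFinite.SpecMap_iff, hφ]
    infer_instance
  letI : Algebra k (T.left.residueField p : Type u) := φ.hom.toAlgebra
  haveI : Module.Finite k (T.left.residueField p : Type u) := hfin
  haveI : Algebra.IsAlgebraic k (T.left.residueField p : Type u) := Algebra.IsAlgebraic.of_finite k _
  let e : (T.left.residueField p : Type u) →ₐ[k] Ω := IsAlgClosed.lift
  refine ⟨Over.homMk (Spec.map (CommRingCat.ofHom e.toRingHom) ≫ T.left.fromSpecResidueField p) ?_, ?_⟩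
  · show (_ ≫ _) ≫ T.hom = Spec.map _
    rw [Category.assoc, ← hφ, ← Spec.map_comp]
    congr 1
    ext x
    exact e.commutes x
  · show T.left.fromSpecResidueField p _ = p
    exact T.left.fromSpecResidueField_apply p _

/-- Geometric points over the same point are conjugate. -/
theorem exists_galAct [IsAlgClosure k Ω] {T : Over (Spec (CommRingCat.of k))} (x y : SGA7.pt Ω ⟶ T)
    (h : pnt x = pnt y) : ∃ σ : Ω ≃ₐ[k] Ω, SGA7.galAct σ x = y := by
  haveI : Normal k Ω := IsAlgClosure.normal k Ω
  haveI : Algebra.IsAlgebraic k Ω := IsAlgClosure.isAlgebraic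
  have hx : Spec.map (T.left.descResidueField (Scheme.stalkClosedPointTo x.left)) ≫
      T.left.fromSpecResidueField (pnt x) = x.left :=
    Scheme.descResidueField_stalkClosedPointTo_fromSpecResidueField Ω T.left x.left
  have hy : Spec.map (T.left.descResidueField (Scheme.stalkClosedPointTo y.left)) ≫
      T.left.fromSpecResidueField (pnt y) = y.left :=
    Scheme.descResidueField_stalkClosedPointTo_fromSpecResidueField Ω T.left y.left
  generalize T.left.descResidueField (Scheme.stalkClosedPointTo x.left) = a at hx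
  generalize T.left.descResidueField (Scheme.stalkClosedPointTo y.left) = b at hy
  obtain ⟨b', hb'⟩ : ∃ b' : T.left.residueField (pnt x) ⟶ CommRingCat.of Ω,
      Spec.map b' ≫ T.left.fromSpecResidueField (pnt x) = y.left := by
    refine ⟨(T.left.residueFieldCongr h).hom ≫ b, ?_⟩
    rw [Spec.map_comp, Category.assoc, Scheme.residueFieldCongr_fromSpecResidueField]
    exact hy
  have hov : ∀ (c : T.left.residueField (pnt x) ⟶ CommRingCat.of Ω) (z : SGA7.pt Ω ⟶ T),
      Spec.map c ≫ T.left.fromSpecResidueField (pnt x) = z.left →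
      Spec.preimage (T.left.fromSpecResidueField (pnt x) ≫ T.hom) ≫ c = CommRingCat.ofHom (algebraMap k Ω) := by
    intro c z hc
    apply Spec.map_injective
    rw [Spec.map_comp, Spec.map_preimage, ← Category.assoc, hc]
    exact Over.w z
  letI : Algebra k (T.left.residueField (pnt x) : Type u) :=
    (Spec.preimage (T.left.fromSpecResidueField (pnt x) ≫ T.hom)).hom.toAlgebra
  let α : (T.left.residueField (pnt x) : Type u) →ₐ[k] Ω :=
    { a.hom with commutes' := fun r => congrArg (fun f => f.hom r) (hov a x hx) }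
  let β : (T.left.residueField (pnt x) : Type u) →ₐ[k] Ω :=
    { b'.hom with commutes' := fun r => congrArg (fun f => f.hom r) (hov b' y hb') }
  letI : Algebra (T.left.residueField (pnt x) : Type u) Ω := α.toRingHom.toAlgebra
  haveI : IsScalarTower k (T.left.residueField (pnt x) : Type u) Ω :=
    IsScalarTower.of_algebraMap_eq fun r => (α.commutes r).symm
  let ψ : Ω →ₐ[k] Ω := β.liftNormal Ω
  have hψ : ∀ r, ψ (α r) = β r := fun r => β.liftNormal_commutes Ω r
  refine ⟨AlgEquiv.ofBijective ψ (Algebra.IsAlgebraic.algHom_bijective ψ), Over.OverMorphism.ext ?_⟩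
  show Spec.map (CommRingCat.ofHom (ψ : Ω →+* Ω)) ≫ x.left = y.left
  rw [← hb', ← hx, ← Category.assoc, ← Spec.map_comp]
  congr 2
  ext r
  exact hψ r

variable [IsAlgClosure k Ω]

/-- A Galois stable torsion group is the group of points of a closed subgroup. -/
theorem exists_subgroup (X : Over (Spec (CommRingCat.of k))) [GrpObj X] [IsCommMonObj X] [IsProper X.hom]
    [GeometricallyIntegral X.hom] (N : ℕ) (hN : 1 ≤ N) (H : Subgroup (SGA7.pt Ω ⟶ X))
    (hHN : ∀ x ∈ H, x ^ N = 1) (hσ : ∀ σ : Ω ≃ₐ[k] Ω, ∀ x ∈ H, SGA7.galAct σ x ∈ H) :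
    ∃ (K : Over (Spec (CommRingCat.of k))) (_ : GrpObj K) (i : K ⟶ X) (_ : IsMonHom i),
      IsClosedImmersion i.left ∧ i ≫ 𝟙 X ^ N = 1 ∧ ∀ x : SGA7.pt Ω ⟶ X, (∃ y, y ≫ i = x) ↔ x ∈ H := by
  haveI : IsAlgClosed Ω := IsAlgClosure.isAlgClosed k
  haveI : IsMonHom (𝟙 X ^ N) := Groth.Agent.AV.Isogeny.isMonHom_pow N
  obtain ⟨hfin, -, -, -⟩ := Groth.Agent.AV.Degree.isogeny_pow (A := X) hN
  obtain ⟨E, gE, e, he, hec, -, sqE⟩ := Groth.L08.AbelianGrp.exists_kernel (𝟙 X ^ N)
  letI := gE
  haveI := he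
  haveI := hec
  haveI : IsFinite E.hom := by
    have h1 : IsFinite (toUnit E).left := MorphismProperty.of_isPullback (P := @IsFinite) (sqE.map (Over.forget _)) hfin
    have h2 : IsFinite ((toUnit E).left ≫ (𝟙_ (Over (Spec (CommRingCat.of k)))).hom) := by
      haveI := h1
      exact inferInstanceAs (IsFinite ((toUnit E).left ≫ 𝟙 _))
    rwa [Over.w] at h2
  haveI := discrete E
  have hN1 : ∀ {T : Over (Spec (CommRingCat.of k))} (x : T ⟶ X), x ≫ 𝟙 X ^ N = x ^ N := fun x => by
    rw [MonObj.comp_pow, Category.comp_id]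
  have hlift : ∀ {T : Over (Spec (CommRingCat.of k))} (x : T ⟶ X), x ^ N = 1 → ∃ z : T ⟶ E, z ≫ e = x := fun x hx => by
    obtain ⟨z, hz, -⟩ := sqE.exists_lift x (toUnit _) (by rw [hN1, hx, Hom.one_def])
    exact ⟨z, hz⟩
  let Z : Set E.left := {p | ∃ z : SGA7.pt Ω ⟶ E, z ≫ e ∈ H ∧ pnt z = p}
  let U : E.left.Opens := ⟨Z, isOpen_discrete Z⟩
  let K : Over (Spec (CommRingCat.of k)) := Over.mk (U.ι ≫ E.hom)
  let j : K ⟶ E := Over.homMk U.ι rfl
  haveI : IsClosedImmersion j.left := by
    refine IsClosedImmersion.of_isPreimmersion U.ι ?_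
    exact isClosed_discrete _
  haveI : Mono j := Over.mono_of_mono_left j
  haveI : Mono e := Over.mono_of_mono_left e
  haveI : IsClosedImmersion (j ≫ e).left := inferInstanceAs (IsClosedImmersion (j.left ≫ e.left))
  haveI : IsFinite K.hom := inferInstanceAs (IsFinite (j.left ≫ E.hom))
  have hmem : ∀ z : SGA7.pt Ω ⟶ E, pnt z ∈ Z → z ≫ e ∈ H := by
    rintro z ⟨z', hz', hp⟩
    obtain ⟨σ, hσ'⟩ := exists_galAct z' z hp
    rw [← hσ']
    show (SGA7.specAut σ ≫ z') ≫ e ∈ H
    rw [Category.assoc]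
    exact hσ σ _ hz'
  have hfac : ∀ {T : Over (Spec (CommRingCat.of k))} [IsFinite T.hom] (f : T ⟶ X), f ^ N = 1 →
      (∀ t : SGA7.pt Ω ⟶ T, t ≫ f ∈ H) → ∃ g : T ⟶ K, g ≫ j ≫ e = f := by
    intro T _ f hf hH
    obtain ⟨z, hz⟩ := hlift f hf
    have hr : Set.range z.left ⊆ Set.range U.ι := by
      rw [Scheme.Opens.range_ι]
      rintro _ ⟨p, rfl⟩
      obtain ⟨t, ht⟩ := exists_pt (Ω := Ω) T p
      exact ⟨t ≫ z, by rw [Category.assoc, hz]; exact hH t, congrArg z.left ht⟩
    let g : T ⟶ K := Over.homMk (IsOpenImmersion.lift U.ι z.left hr) (by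
      show _ ≫ U.ι ≫ E.hom = T.hom
      rw [IsOpenImmersion.lift_fac_assoc, Over.w])
    refine ⟨g, ?_⟩
    rw [← Category.assoc, show g ≫ j = z from Over.OverMorphism.ext (IsOpenImmersion.lift_fac _ _ _), hz]
  have hK : ∀ t : SGA7.pt Ω ⟶ K, t ≫ j ≫ e ∈ H := fun t => by
    rw [← Category.assoc]
    exact hmem _ (t.left (IsLocalRing.closedPoint Ω)).2
  have hKN : (j ≫ e) ^ N = 1 := by
    rw [← hN1, Category.assoc, sqE.w, ← Category.assoc, toUnit_unique (j ≫ toUnit E) (toUnit K), ← Hom.one_def]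
  haveI : IsFinite (𝟙_ (Over (Spec (CommRingCat.of k)))).hom := inferInstanceAs (IsFinite (𝟙 _))
  haveI : IsFinite (K ⊗ K).hom := inferInstanceAs (IsFinite (pullback.fst K.hom K.hom ≫ K.hom))
  obtain ⟨gK, hi⟩ := Groth.L08.exists_grpObj_of_mono (j ≫ e)
    (hfac η[X] (by rw [MonObj.one_eq_one, one_pow]) fun t => by
      rw [MonObj.one_eq_one, MonObj.comp_one]; exact H.one_mem)
    (hfac _ (by
      rw [mul_pow, show (fst K K ≫ j ≫ e) ^ N = fst K K ≫ (j ≫ e) ^ N from (MonObj.comp_pow _ _ _).symm,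
      show (snd K K ≫ j ≫ e) ^ N = snd K K ≫ (j ≫ e) ^ N from (MonObj.comp_pow _ _ _).symm, hKN, MonObj.comp_one, MonObj.comp_one, one_mul])
      fun t => by
      rw [MonObj.comp_mul, ← Category.assoc t, ← Category.assoc t]
      exact H.mul_mem (hK _) (hK _))
    (hfac _ (by rw [inv_pow, hKN, inv_one]) fun t => by rw [GrpObj.comp_inv]; exact H.inv_mem (hK t))
  refine ⟨K, gK, j ≫ e, hi, inferInstance, by rw [hN1, hKN], fun x => ⟨?_, fun hx => ?_⟩⟩
  · rintro ⟨y, rfl⟩
    exact hK y
  · obtain ⟨z, hz⟩ := hlift x (hHN x hx)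
    have hr : Set.range z.left ⊆ Set.range U.ι := by
      rw [Scheme.Opens.range_ι]
      rintro _ ⟨p, rfl⟩
      refine ⟨z, by rw [hz]; exact hx, ?_⟩
      exact congrArg z.left (Subsingleton.elim (α := PrimeSpectrum Ω) _ _)
    refine ⟨Over.homMk (IsOpenImmersion.lift U.ι z.left hr) (by
      show _ ≫ U.ι ≫ E.hom = _
      rw [IsOpenImmersion.lift_fac_assoc, Over.w]), ?_⟩
    rw [← hz, ← Category.assoc]
    congr 1
    exact Over.OverMorphism.ext (IsOpenImmersion.lift_fac _ _ _)

end Groth.Agent.Tate.GalSubgroup
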