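/-
Isogenies cut out by Galois stable submodules of the Tate module.
-/
import Groth.Agent.L26.Tate.GalSubgroup
import Groth.Agent.L26.AV.TateFinite
import Groth.Agent.L08.Albanese.EtaleDescent
import Groth.Agent.L26.Poincare.Reducibility

/-!
# The quotient attached to a Galois stable submodule of the Tate module at each level

For every level there is an isogeny whose image on Tate modules consists of the vectors congruent to the submodule.
-/

set_option autoImplicit false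
set_option linter.style.haveILetI false
set_option backward.isDefEq.respectTransparency.types false

universe u

open CategoryTheory CategoryTheory.Limits MonoidalCategory CartesianMonoidalCategory AlgebraicGeometry
open scoped MonObj

noncomputable section

namespace Groth.Agent.Tate.Lattice

variable {k : Type u} [Field k] {Ω : Type u} [Field Ω] [Algebra k Ω]

theorem comp_iterate {S : Scheme.{u}} {A T : Over S} [GrpObj A] [IsCommMonObj A] {l : ℕ}
    (x : AbDual.TateMod A l T) : ∀ j m, (l ^ j) • (x : ℕ → Additive (T ⟶ A)) (m + j) = (x : ℕ → Additive (T ⟶ A)) m := by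
  intro j
  induction j with
  | zero => intro m; rw [pow_zero, one_nsmul]; rfl
  | succ j ih => intro m; rw [pow_succ, mul_nsmul', ← Nat.add_assoc, x.compat, ih]

variable [IsAlgClosure k Ω] {l : ℕ} [Fact l.Prime] {X : Over (Spec (CommRingCat.of k))}
  [GrpObj X] [IsCommMonObj X] [IsProper X.hom] [GeometricallyIntegral X.hom]
  (ρ : (Ω ≃ₐ[k] Ω) → Module.End ℤ_[l] (AbDual.TateMod X l (SGA7.pt Ω)))
  (hρ : ∀ (τ : Ω ≃ₐ[k] Ω) (z : AbDual.TateMod X l (SGA7.pt Ω)) (m : ℕ),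
      (AbDual.TateMod.component X l (SGA7.pt Ω) m (ρ τ z)).toMul =
        SGA7.galAct τ (AbDual.TateMod.component X l (SGA7.pt Ω) m z).toMul)
  (WT : Submodule ℤ_[l] (AbDual.TateMod X l (SGA7.pt Ω)))
  (hWT : ∀ τ, ∀ w ∈ WT, ρ τ w ∈ WT)

/-- Congruence to the submodule at level `n`. -/
def Near (n : ℕ) (x : AbDual.TateMod X l (SGA7.pt Ω)) : Prop :=
  ∃ w ∈ WT, AbDual.TateMod.component X l (SGA7.pt Ω) n w = AbDual.TateMod.component X l (SGA7.pt Ω) n x

include hρ hWT in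
/-- The quotient at level `n`. -/
theorem exists_level (n : ℕ) :
    ∃ (Y : Over (Spec (CommRingCat.of k))) (_ : GrpObj Y) (_ : IsCommMonObj Y) (_ : IsProper Y.hom)
      (_ : GeometricallyIntegral Y.hom) (q : X ⟶ Y) (_ : IsMonHom q) (v : Y ⟶ X) (_ : IsMonHom v),
      q ≫ v = 𝟙 X ^ (l ^ n) ∧ v ≫ q = 𝟙 Y ^ (l ^ n) ∧
      (∀ z, Near WT n (AbDual.tateMapₗ (l := l) (T := SGA7.pt Ω) v z)) ∧
      (∀ x, Near WT n x → ∃ z, AbDual.tateMapₗ (l := l) (T := SGA7.pt Ω) v z = x) := by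
  have hl : 1 ≤ l ^ n := Nat.one_le_pow _ _ (Fact.out : l.Prime).pos
  let H : Subgroup (SGA7.pt Ω ⟶ X) :=
    { carrier := {x | ∃ w ∈ WT, (AbDual.TateMod.component X l (SGA7.pt Ω) n w).toMul = x}
      mul_mem' := by
        rintro _ _ ⟨a, ha, rfl⟩ ⟨b, hb, rfl⟩
        exact ⟨a + b, WT.add_mem ha hb, by rw [map_add]; rfl⟩
      one_mem' := ⟨0, WT.zero_mem, by rw [map_zero]; rfl⟩
      inv_mem' := by
        rintro _ ⟨a, ha, rfl⟩
        exact ⟨-a, WT.neg_mem ha, by rw [map_neg]; rfl⟩ }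
  have hHN : ∀ x ∈ H, x ^ (l ^ n) = 1 := by
    rintro _ ⟨w, -, rfl⟩
    exact AbDual.TateMod.component_mem w n
  obtain ⟨K, gK, i, hi, hic, hiN, hK⟩ := GalSubgroup.exists_subgroup X (l ^ n) hl H hHN (by
    rintro σ _ ⟨w, hw, rfl⟩
    exact ⟨ρ σ w, hWT σ w hw, hρ σ w n⟩)
  letI := gK
  haveI := hi
  haveI := hic
  obtain ⟨Y, gY, q, hq, hqs, hqf, hqp, hYl, hYc, hYcomm, hker⟩ := Groth.L08.AbelianGrp.exists_quotient i
  letI := gY
  haveI := hq
  haveI := hqs
  haveI := hqf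
  haveI := hqp
  haveI := hYl
  haveI := hYc
  haveI := hYcomm
  obtain ⟨_, _⟩ := Groth.L08.Albanese.abelian_of_cover q
  haveI : IsMonHom (𝟙 X ^ (l ^ n)) := Groth.Agent.AV.Isogeny.isMonHom_pow _
  haveI : QuasiCompact (q.left ≫ Y.hom) := by rw [Over.w]; infer_instance
  haveI : QuasiCompact q.left := QuasiCompact.of_comp q.left Y.hom
  have hqK : ∀ {T : Over (Spec (CommRingCat.of k))} (x : T ⟶ X), x ≫ q = 1 ↔ ∃ y, y ≫ i = x := fun {T} x => by
    refine ⟨fun h => ?_, ?_⟩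
    · obtain ⟨y, hy, -⟩ := hker.exists_lift x (toUnit T) (h.trans Hom.one_def)
      exact ⟨y, hy⟩
    · rintro ⟨y, rfl⟩
      rw [Category.assoc, hker.w, ← Category.assoc, toUnit_unique (y ≫ toUnit K) (toUnit T), ← Hom.one_def]
  obtain ⟨v, hv, hv1⟩ := Groth.Agent.Poincare.Reducibility.exists_desc_of_kills q (𝟙 X ^ (l ^ n)) fun T x hx => by
    obtain ⟨y, rfl⟩ := (hqK x).1 hx
    rw [Category.assoc, hiN, MonObj.comp_one]
  haveI : IsMonHom v := Groth.Agent.AV.isMonHom_of_one v hv1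
  haveI : Epi q := Groth.L08.GQuot.epi_of_cover q
  have hvq : v ≫ q = 𝟙 Y ^ (l ^ n) := by
    rw [← cancel_epi q, ← Category.assoc, hv, MonObj.pow_comp, Category.id_comp, MonObj.comp_pow, Category.comp_id]
  have hH : ∀ x, x ≫ q = 1 ↔ x ∈ H := fun x => (hqK x).trans (hK x)
  refine ⟨Y, gY, hYcomm, ‹_›, ‹_›, q, hq, v, ‹_›, hv, hvq, fun z => ?_, fun x hx => ?_⟩
  · obtain ⟨w, hw, hwx⟩ := (hH (((z : ℕ → Additive (SGA7.pt Ω ⟶ Y)) n).toMul ≫ v)).1 (by
      rw [Category.assoc, hvq, MonObj.comp_pow, Category.comp_id]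
      exact congrArg Additive.toMul (z.torsion n))
    exact ⟨w, hw, Additive.toMul.injective hwx⟩
  · obtain ⟨w, hw, hwx⟩ := hx
    have hxH : ((x : ℕ → Additive (SGA7.pt Ω ⟶ X)) n).toMul ≫ q = 1 := (hH _).2 ⟨w, hw, congrArg Additive.toMul hwx⟩
    refine ⟨⟨fun m => Additive.ofMul (((x : ℕ → Additive (SGA7.pt Ω ⟶ X)) (m + n)).toMul ≫ q), fun m => ?_, fun m => ?_⟩,
      AbDual.TateMod.ext fun m => ?_⟩
    · show (l ^ m) • Additive.ofMul _ = (0 : Additive (SGA7.pt Ω ⟶ Y))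
      rw [← AbDual.nsmul_comp, Nat.add_comm m n, comp_iterate x m n, hxH]
      rfl
    · show l • Additive.ofMul _ = Additive.ofMul _
      rw [← AbDual.nsmul_comp, show m + 1 + n = m + n + 1 by omega, x.compat]
    · show Additive.ofMul ((((x : ℕ → Additive (SGA7.pt Ω ⟶ X)) (m + n)).toMul ≫ q) ≫ v) = _
      rw [Category.assoc, hv, MonObj.comp_pow, Category.comp_id]
      exact comp_iterate x n m

end Groth.Agent.Tate.Lattice
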