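/-
Tate's limit argument.
-/
import Groth.Agent.L26.Tate.Lattice
import Groth.Agent.L26.AV.CharMin
import Mathlib.Topology.Sequences
import Mathlib.RingTheory.Filtration
import Mathlib.NumberTheory.Padics.PadicIntegers

/-!
# Galois stable submodules of the Tate module are images of endomorphisms

Under the finiteness condition a limit of endomorphisms has image commensurable with the submodule.
-/

set_option autoImplicit false
set_option linter.style.haveILetI false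
set_option backward.isDefEq.respectTransparency.types false

universe u

open CategoryTheory CategoryTheory.Limits MonoidalCategory CartesianMonoidalCategory AlgebraicGeometry Filter Topology
open scoped MonObj

noncomputable section

namespace Groth.Agent.Tate.Core

/-- Congruence modulo all powers of `l` to a submodule of a finite module is membership. -/
theorem mem_of_forall {l : ℕ} [Fact l.Prime] {M : Type*} [AddCommGroup M] [Module ℤ_[l] M] [Module.Finite ℤ_[l] M]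
    (N : Submodule ℤ_[l] M) (x : M) (h : ∀ n : ℕ, ∃ y, x - ((l : ℤ_[l]) ^ n) • y ∈ N) : x ∈ N := by
  rw [← Submodule.Quotient.mk_eq_zero N]
  have hk := Ideal.iInf_pow_smul_eq_bot_of_isLocalRing (M := M ⧸ N) (IsLocalRing.maximalIdeal ℤ_[l])
    (IsLocalRing.maximalIdeal.isMaximal _).ne_top
  rw [← Submodule.mem_bot ℤ_[l], ← hk, Submodule.mem_iInf]
  intro n
  obtain ⟨y, hy⟩ := h n
  rw [← Submodule.Quotient.mk_eq_zero N, Submodule.Quotient.mk_sub, sub_eq_zero] at hy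
  rw [hy, Submodule.Quotient.mk_smul]
  refine Submodule.smul_mem_smul (Ideal.pow_mem_pow ?_ n) Submodule.mem_top
  rw [PadicInt.maximalIdeal_eq_span_p]
  exact Ideal.mem_span_singleton_self _

variable {k : Type u} [Field k]

/-- Isomorphic abelian varieties are isomorphic as groups. -/
theorem exists_groupIso {Y Z : Over (Spec (CommRingCat.of k))} [GrpObj Y] [IsProper Y.hom] [GeometricallyIntegral Y.hom]
    [GrpObj Z] [IsProper Z.hom] [GeometricallyIntegral Z.hom] (e : Y ≅ Z) :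
    ∃ (f : Y ⟶ Z) (g : Z ⟶ Y), IsMonHom f ∧ f ≫ g = 𝟙 Y ∧ g ≫ f = 𝟙 Z := by
  haveI := isCommMonObj_of_isProper_of_geometricallyIntegral Z
  let p := η[Y] ≫ e.hom
  let f := e.hom * (toUnit Y ≫ p)⁻¹
  let g := (𝟙 Z * (toUnit Z ≫ p)) ≫ e.inv
  have hf1 : η[Y] ≫ f = η[Z] := by
    rw [MonObj.comp_mul, GrpObj.comp_inv, ← Category.assoc η[Y], toUnit_unique (η[Y] ≫ toUnit Y) (𝟙 _), Category.id_comp,
      mul_inv_cancel, MonObj.one_eq_one]
  have hT : ∀ {T U : Over (Spec (CommRingCat.of k))} (a : T ⟶ U), a ≫ toUnit U ≫ p = toUnit T ≫ p := fun a => by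
    rw [← Category.assoc, toUnit_unique (a ≫ toUnit _) (toUnit _)]
  refine ⟨f, g, Groth.Agent.AV.isMonHom_of_one f hf1, ?_, ?_⟩
  · show f ≫ (𝟙 Z * (toUnit Z ≫ p)) ≫ e.inv = _
    rw [← Category.assoc, MonObj.comp_mul, Category.comp_id, hT, inv_mul_cancel_right, e.hom_inv_id]
  · show g ≫ (e.hom * (toUnit Y ≫ p)⁻¹) = _
    rw [MonObj.comp_mul, GrpObj.comp_inv, hT, Category.assoc, e.inv_hom_id, Category.comp_id, mul_inv_cancel_right]

variable {Ω : Type u} [Field Ω] [Algebra k Ω] [IsAlgClosure k Ω] {l : ℕ} [Fact l.Prime]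

theorem tateMap_comp {A B D : Over (Spec (CommRingCat.of k))} [GrpObj A] [IsCommMonObj A] [GrpObj B] [IsCommMonObj B]
    [GrpObj D] [IsCommMonObj D] (f : A ⟶ B) (g : B ⟶ D) [IsMonHom f] [IsMonHom g]
    (x : AbDual.TateMod A l (SGA7.pt Ω)) :
    AbDual.tateMapₗ (l := l) (T := SGA7.pt Ω) (f ≫ g) x = AbDual.tateMapₗ g (AbDual.tateMapₗ f x) :=
  AbDual.TateMod.ext fun n => congrArg Additive.ofMul (Category.assoc _ _ _).symm

theorem tateMap_eq_smul {A : Over (Spec (CommRingCat.of k))} [GrpObj A] [IsCommMonObj A] (h : A ⟶ A) [IsMonHom h]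
    (m : ℕ) (hh : h = 𝟙 A ^ m) (x : AbDual.TateMod A l (SGA7.pt Ω)) :
    AbDual.tateMapₗ (l := l) (T := SGA7.pt Ω) h x = (m : ℤ_[l]) • x := by
  refine AbDual.TateMod.ext fun n => ?_
  rw [Nat.cast_smul_eq_nsmul, Groth.Agent.AV.TateSat.component_nsmul]
  show Additive.ofMul (_ ≫ h) = _
  rw [hh, MonObj.comp_pow, Category.comp_id]
  rfl

variable {X : Over (Spec (CommRingCat.of k))} [GrpObj X] [IsCommMonObj X] [IsProper X.hom] [GeometricallyIntegral X.hom]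
  (ρ : (Ω ≃ₐ[k] Ω) → Module.End ℤ_[l] (AbDual.TateMod X l (SGA7.pt Ω)))
  (hρ : ∀ (τ : Ω ≃ₐ[k] Ω) (z : AbDual.TateMod X l (SGA7.pt Ω)) (m : ℕ),
      (AbDual.TateMod.component X l (SGA7.pt Ω) m (ρ τ z)).toMul =
        SGA7.galAct τ (AbDual.TateMod.component X l (SGA7.pt Ω) m z).toMul)
  (WT : Submodule ℤ_[l] (AbDual.TateMod X l (SGA7.pt Ω)))
  (hWT : ∀ τ, ∀ w ∈ WT, ρ τ w ∈ WT)
  (hFin : ∃ (J : Type u) (_ : Finite J) (F : J → Over (Spec (CommRingCat.of k))),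
        ∀ (Y : Over (Spec (CommRingCat.of k))) [GrpObj Y] [IsCommMonObj Y] [IsProper Y.hom] [GeometricallyIntegral Y.hom]
          (u : X ⟶ Y) [IsMonHom u] (v : Y ⟶ X) [IsMonHom v] (m : ℕ),
          u ≫ v = (𝟙 X) ^ (l ^ m) → v ≫ u = (𝟙 Y) ^ (l ^ m) → ∃ i, Nonempty (Y ≅ F i))

include hρ hWT hFin in
/-- The finiteness condition gives endomorphisms approximating the submodule at every level. -/
theorem exists_approx : ∃ n₀ : ℕ, ∀ j : ℕ, ∃ f : EndAV.End X,
    (∀ x, Lattice.Near WT j (EndAV.End.tateRep l (SGA7.pt Ω) f x)) ∧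
    ∀ w ∈ WT, ∃ x, EndAV.End.tateRep l (SGA7.pt Ω) f x = ((l : ℤ_[l]) ^ n₀) • w := by
  choose Y gY cY pY iY q hq v hv hqv hvq hY1 hY2 using Lattice.exists_level (Ω := Ω) ρ hρ WT hWT
  obtain ⟨J, _, F, hF⟩ := hFin
  have hiso : ∀ n, ∃ i, Nonempty (Y n ≅ F i) := fun n => by
    letI := gY n
    haveI := cY n
    haveI := pY n
    haveI := iY n
    haveI := hq n
    haveI := hv n
    exact hF (Y n) (q n) (v n) n (hqv n) (hvq n)
  choose c hc using hiso
  obtain ⟨i₀, hi₀⟩ := Finite.exists_infinite_fiber c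
  have hinf : (c ⁻¹' {i₀}).Infinite := Set.infinite_coe_iff.1 hi₀
  obtain ⟨n₀, hn₀⟩ := hinf.nonempty
  refine ⟨n₀, fun j => ?_⟩
  obtain ⟨N, hN, hjN⟩ := hinf.exists_gt j
  letI := gY n₀
  haveI := cY n₀
  haveI := pY n₀
  haveI := iY n₀
  haveI := hq n₀
  haveI := hv n₀
  letI := gY N
  haveI := cY N
  haveI := pY N
  haveI := iY N
  haveI := hq N
  haveI := hv N
  have e : Y n₀ ≅ Y N := (hc n₀).some ≪≫
    eqToIso (congrArg F ((show c n₀ = i₀ from hn₀).trans (show c N = i₀ from hN).symm)) ≪≫ (hc N).some.symm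
  obtain ⟨a, b, _, hab, hba⟩ := exists_groupIso e
  refine ⟨EndAV.End.of (q n₀ ≫ a ≫ v N), fun x => ?_, fun w hw => ?_⟩
  · show Lattice.Near WT j (AbDual.tateMapₗ (q n₀ ≫ a ≫ v N) x)
    rw [tateMap_comp, tateMap_comp]
    obtain ⟨w, hw, hwe⟩ := hY1 N (AbDual.tateMapₗ a (AbDual.tateMapₗ (q n₀) x))
    refine ⟨w, hw, ?_⟩
    have h1 := Lattice.comp_iterate w (N - j) j
    have h2 := Lattice.comp_iterate (AbDual.tateMapₗ (l := l) (T := SGA7.pt Ω) (v N) (AbDual.tateMapₗ a (AbDual.tateMapₗ (q n₀) x))) (N - j) j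
    rw [Nat.add_sub_cancel' hjN.le] at h1 h2
    exact h1.symm.trans ((congrArg (fun t => l ^ (N - j) • t) hwe).trans h2)
  · obtain ⟨y, hy⟩ := hY2 N w ⟨w, hw, rfl⟩
    haveI : IsIso a := ⟨b, hab, hba⟩
    haveI : IsMonHom b := Groth.Agent.AV.isMonHom_of_one b (by
      have h1 : η[Y n₀] ≫ a = η[Y N] := IsMonHom.one_hom a
      rw [← h1, Category.assoc, hab, Category.comp_id])
    refine ⟨AbDual.tateMapₗ (v n₀) (AbDual.tateMapₗ b y), ?_⟩
    show AbDual.tateMapₗ (q n₀ ≫ a ≫ v N) _ = _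
    haveI : IsMonHom (v n₀ ≫ q n₀) := inferInstance
    rw [tateMap_comp, tateMap_comp, ← tateMap_comp (v n₀) (q n₀), tateMap_eq_smul _ _ (hvq n₀), map_smul, map_smul,
      ← tateMap_comp b a]
    rw [tateMap_eq_smul (b ≫ a) 1 (by rw [hba, pow_one]), Nat.cast_one, one_smul, hy, Nat.cast_pow]

include hρ hWT hFin in
/-- A limit of endomorphisms has image commensurable with the submodule. -/
theorem exists_limit [Module.Finite ℤ_[l] (AbDual.TateMod X l (SGA7.pt Ω))] :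
    ∃ (m : ℕ) (g : Fin m → EndAV.End X) (c : Fin m → ℤ_[l]) (n₀ : ℕ),
      (∀ x, (∑ i, c i • EndAV.End.tateRep l (SGA7.pt Ω) (g i)) x ∈ WT) ∧
      ∀ w ∈ WT, ∃ x, (∑ i, c i • EndAV.End.tateRep l (SGA7.pt Ω) (g i)) x = ((l : ℤ_[l]) ^ n₀) • w := by
  obtain ⟨n₀, hn₀⟩ := exists_approx ρ hρ WT hWT hFin
  choose f hf1 hf2 using hn₀
  haveI : Module.Finite ℤ (EndAV.End X) := Groth.Agent.AV.CharMin.free_end.2
  obtain ⟨m, g, hg⟩ := Submodule.fg_iff_exists_fin_generating_family.1 (Module.Finite.fg_top (R := ℤ) (M := EndAV.End X))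
  have hspan : ∀ j, ∃ a : Fin m → ℤ, ∑ i, a i • g i = f j := fun j =>
    (Submodule.mem_span_range_iff_exists_fun _).1 (hg ▸ Submodule.mem_top)
  choose a ha using hspan
  let cs : ℕ → Fin m → ℤ_[l] := fun j i => (a j i : ℤ_[l])
  obtain ⟨c, -, φ, hφ, hlim⟩ := IsCompact.tendsto_subseq (isCompact_univ (X := Fin m → ℤ_[l])) (x := cs) (fun _ => trivial)
  let u := ∑ i, c i • EndAV.End.tateRep l (SGA7.pt Ω) (g i)
  have hfx : ∀ j x, EndAV.End.tateRep l (SGA7.pt Ω) (f j) x =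
      (∑ i, cs j i • EndAV.End.tateRep l (SGA7.pt Ω) (g i)) x := by
    intro j x
    rw [← ha j, map_sum]
    simp only [map_zsmul, LinearMap.coe_sum, Finset.sum_apply, LinearMap.smul_apply, cs, Int.cast_smul_eq_zsmul]
  have hclose : ∀ n : ℕ, ∃ j, n ≤ j ∧ ∀ i, ∃ d : ℤ_[l], c i - cs j i = (l : ℤ_[l]) ^ n * d := by
    intro n
    have hev : ∀ i, ∀ᶠ j in atTop, ‖c i - cs (φ j) i‖ ≤ (l : ℝ) ^ (-(n : ℤ)) := by
      intro i
      have h := (tendsto_pi_nhds.1 hlim) i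
      have hpos : (0 : ℝ) < (l : ℝ) ^ (-(n : ℤ)) := zpow_pos (by exact_mod_cast (Fact.out : l.Prime).pos) _
      filter_upwards [Metric.tendsto_nhds.1 h _ hpos] with j hj
      rw [dist_comm, dist_eq_norm] at hj
      exact hj.le
    obtain ⟨j, hj, hjn⟩ := ((eventually_all.2 hev).and (eventually_ge_atTop n)).exists
    refine ⟨φ j, hjn.trans (hφ.le_apply), fun i => ?_⟩
    obtain ⟨d, hd⟩ := Ideal.mem_span_singleton.1 ((PadicInt.norm_le_pow_iff_mem_span_pow _ n).1 (hj i))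
    exact ⟨d, hd⟩
  have hdiff : ∀ n : ℕ, ∃ j, n ≤ j ∧ ∀ x, ∃ y, u x - EndAV.End.tateRep l (SGA7.pt Ω) (f j) x = ((l : ℤ_[l]) ^ n) • y := by
    intro n
    obtain ⟨j, hj, hd⟩ := hclose n
    choose d hd using hd
    refine ⟨j, hj, fun x => ⟨∑ i, d i • EndAV.End.tateRep l (SGA7.pt Ω) (g i) x, ?_⟩⟩
    rw [hfx]
    simp only [u, LinearMap.coe_sum, Finset.sum_apply, LinearMap.smul_apply, ← Finset.sum_sub_distrib, ← sub_smul, hd,
      Finset.smul_sum, smul_smul]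
  refine ⟨m, g, c, n₀, fun x => mem_of_forall WT _ fun n => ?_, fun w hw => ?_⟩
  · obtain ⟨j, hj, hd⟩ := hdiff n
    obtain ⟨y, hy⟩ := hd x
    obtain ⟨w, hw, hwe⟩ := hf1 j x
    obtain ⟨z, hz⟩ := Groth.Agent.AV.TateFinite.exists_shift (EndAV.End.tateRep l (SGA7.pt Ω) (f j) x - w) j (by
      show AbDual.TateMod.component X l (SGA7.pt Ω) j (EndAV.End.tateRep l (SGA7.pt Ω) (f j) x - w) = 0
      rw [map_sub, hwe, sub_self])
    refine ⟨y + ((l : ℤ_[l]) ^ (j - n)) • z, ?_⟩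
    convert hw using 1
    rw [smul_add, ← hy, smul_smul, ← pow_add, Nat.add_sub_cancel' hj, hz]
    show u x - _ = _
    abel
  · obtain ⟨x, hx⟩ : ((l : ℤ_[l]) ^ n₀) • w ∈ LinearMap.range u := mem_of_forall _ _ fun n => by
      obtain ⟨j, -, hd⟩ := hdiff n
      obtain ⟨x, hx⟩ := hf2 j w hw
      obtain ⟨y, hy⟩ := hd x
      refine ⟨-y, x, ?_⟩
      rw [smul_neg, ← hy, hx]
      abel
    exact ⟨x, hx⟩

end Groth.Agent.Tate.Core
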