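/-
The span of the endomorphisms in the rational Tate module.
-/
import Groth.Agent.S15651
import Groth.Agent.S11684
import Groth.Agent.L26.AV.CharMin
import Groth.Prelude.Def_EndTate
import Mathlib.FieldTheory.Perfect
import Mathlib.RingTheory.SimpleModule.Basic

/-!
# The algebra spanned by endomorphisms on the rational Tate module is semisimple

It is a quotient of a scalar extension of the semisimple algebra of endomorphisms up to isogeny.
-/

set_option autoImplicit false
set_option linter.style.haveILetI false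
set_option backward.isDefEq.respectTransparency.types false

universe u

open CategoryTheory MonoidalCategory CartesianMonoidalCategory AlgebraicGeometry
open scoped MonObj TensorProduct

noncomputable section

namespace Groth.Agent.Tate.Semisimple

/-- A semisimple algebra over a perfect field has separable centre. -/
theorem isSeparable_center (F : Type*) [Field F] [PerfectField F] (R : Type*) [Ring R] [Algebra F R]
    [FiniteDimensional F R] [IsSemisimpleRing R] : Algebra.IsSeparable F (Subalgebra.center F R) := by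
  haveI : IsReduced (Subalgebra.center F R) := by
    rw [isReduced_iff_pow_one_lt 2 one_lt_two]
    intro z hz
    obtain ⟨e, he, hI⟩ := IsSemisimpleRing.ideal_eq_span_idempotent (Ideal.span {(z : R)})
    obtain ⟨a, ha⟩ := Ideal.mem_span_singleton'.1 (hI.ge (Ideal.mem_span_singleton_self e))
    obtain ⟨b, hb⟩ := Ideal.mem_span_singleton'.1 (hI.le (Ideal.mem_span_singleton_self (z : R)))
    have hz2 : (z : R) * z = 0 := by
      have := congrArg Subtype.val hz
      rwa [pow_two] at this
    have he0 : e = 0 := by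
      rw [← he.eq, ← ha]
      calc a * (z : R) * (a * z) = a * ((z : R) * a) * z := by noncomm_ring
        _ = a * (a * z) * z := by rw [Subalgebra.mem_center_iff.1 z.2 a]
        _ = a * a * ((z : R) * z) := by noncomm_ring
        _ = 0 := by rw [hz2, mul_zero]
    exact Subtype.ext (by rw [← hb, he0, mul_zero]; rfl)
  refine ⟨fun z => ?_⟩
  have hi : IsIntegral F z := Algebra.IsIntegral.isIntegral z
  exact PerfectField.separable_iff_squarefree.2 ((minpoly.isRadical F z).squarefree (minpoly.ne_zero hi))

variable {k : Type u} [Field k] (l : ℕ) [Fact l.Prime] (T₀ : Over (Spec (CommRingCat.of k)))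
  (X : Over (Spec (CommRingCat.of k))) [GrpObj X] [IsCommMonObj X] [IsProper X.hom] [GeometricallyIntegral X.hom]

/-- The rational Tate module. -/
abbrev V : Type u := ℚ_[l] ⊗[ℤ_[l]] AbDual.TateMod X l T₀

/-- The linear combinations of endomorphisms on the rational Tate module. -/
def endSpan : Submodule ℚ_[l] (Module.End ℚ_[l] (V l T₀ X)) :=
  Submodule.span ℚ_[l] {ψ : Module.End ℚ_[l] (ℚ_[l] ⊗[ℤ_[l]] AbDual.TateMod X l T₀) |
    ∃ (f : X ⟶ X) (_ : IsMonHom f), ψ = (AbDual.tateMapₗ (l := l) (T := T₀) f).baseChange ℚ_[l]}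

/-- The span is the carrier of a semisimple subalgebra. -/
theorem exists_subalgebra : ∃ E : Subalgebra ℚ_[l] (Module.End ℚ_[l] (V l T₀ X)),
    IsSemisimpleRing E ∧ Subalgebra.toSubmodule E = endSpan l T₀ X := by
  haveI := Groth.Agent.S15651.result k X
  haveI : Module.Finite ℤ (EndAV.End X) := Groth.Agent.AV.CharMin.free_end.2
  haveI : Module.Finite ℚ (EndAV.End0 X) := Module.Finite.base_change ℤ ℚ (EndAV.End X)
  haveI := isSeparable_center ℚ (EndAV.End0 X)
  haveI := Groth.Agent.S11684.result ℚ (EndAV.End0 X) ℚ_[l]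
  let rep : EndAV.End X →+* Module.End ℚ_[l] (V l T₀ X) :=
    (Module.End.baseChangeHom ℤ_[l] ℚ_[l] (AbDual.TateMod X l T₀)).toRingHom.comp (EndAV.End.tateRep l T₀)
  let repZ : EndAV.End X →ₐ[ℤ] Module.End ℚ_[l] (V l T₀ X) := AlgHom.mk rep fun r => by simp
  let χ : EndAV.End0 X →ₐ[ℚ] Module.End ℚ_[l] (V l T₀ X) :=
    Algebra.TensorProduct.lift (Algebra.ofId ℚ _) repZ fun q f => Algebra.commutes q _
  let ψ : ℚ_[l] ⊗[ℚ] EndAV.End0 X →ₐ[ℚ_[l]] Module.End ℚ_[l] (V l T₀ X) :=
    Algebra.TensorProduct.lift (Algebra.ofId ℚ_[l] _) χ fun q f => Algebra.commutes q _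
  refine ⟨ψ.range, RingHom.isSemisimpleRing_of_surjective (R := ℚ_[l] ⊗[ℚ] EndAV.End0 X) ψ.rangeRestrict.toRingHom ψ.rangeRestrict_surjective,
    le_antisymm ?_ ?_⟩
  · rintro _ ⟨x, rfl⟩
    show ψ x ∈ endSpan l T₀ X
    induction x using TensorProduct.induction_on with
    | zero => rw [map_zero]; exact zero_mem _
    | add a b ha hb => rw [map_add]; exact add_mem ha hb
    | tmul a y =>
      rw [Algebra.TensorProduct.lift_tmul, Algebra.ofId_apply, ← Algebra.smul_def]
      refine Submodule.smul_mem _ _ ?_
      induction y using TensorProduct.induction_on with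
      | zero => rw [map_zero]; exact zero_mem _
      | add a b ha hb => rw [map_add]; exact add_mem ha hb
      | tmul q f =>
        rw [Algebra.TensorProduct.lift_tmul, Algebra.ofId_apply,
          show algebraMap ℚ (Module.End ℚ_[l] (V l T₀ X)) q = algebraMap ℚ_[l] _ (algebraMap ℚ ℚ_[l] q) from rfl,
          ← Algebra.smul_def]
        exact Submodule.smul_mem _ _ (Submodule.subset_span ⟨f.toHom, inferInstance, rfl⟩)
  · refine Submodule.span_le.2 ?_
    rintro _ ⟨f, hf, rfl⟩
    refine ⟨(1 : ℚ_[l]) ⊗ₜ ((1 : ℚ) ⊗ₜ EndAV.End.of f), ?_⟩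
    show ψ _ = _
    rw [Algebra.TensorProduct.lift_tmul, map_one, one_mul, Algebra.TensorProduct.lift_tmul, map_one, one_mul]
    rfl

end Groth.Agent.Tate.Semisimple
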