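/-
Tate's semisimplicity and equivariance.
-/
import Groth.Agent.S16851
import Groth.Agent.L26.Tate.Semisimple
import Groth.Agent.L26.Poincare.Adjoint

/-!
# Semisimplicity of the Galois representation and equivariant endomorphisms

Both follow from the image lemma, applied to the variety and to its square, and the density theorem.
-/

set_option autoImplicit false
set_option linter.style.haveILetI false
set_option backward.isDefEq.respectTransparency.types false

universe u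

open CategoryTheory MonoidalCategory CartesianMonoidalCategory AlgebraicGeometry AbVar
open scoped MonObj TensorProduct

noncomputable section

namespace Groth.Agent.Tate.Theorem

open Semisimple

variable {k : Type u} [Field k] {Ω : Type u} [Field Ω] [Algebra k Ω] {l : ℕ} [Fact l.Prime]

local notation "tM" f => AbDual.tateMapₗ (l := l) (T := SGA7.pt Ω) f

/-- Galois commutes with the maps induced by homomorphisms. -/
theorem galois_comm {A B : Over (Spec (CommRingCat.of k))} [GrpObj A] [IsCommMonObj A] [GrpObj B] [IsCommMonObj B]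
    (ρA : (Ω ≃ₐ[k] Ω) → Module.End ℤ_[l] (AbDual.TateMod A l (SGA7.pt Ω)))
    (hA : ∀ (τ : Ω ≃ₐ[k] Ω) (z : AbDual.TateMod A l (SGA7.pt Ω)) (m : ℕ),
      (AbDual.TateMod.component A l (SGA7.pt Ω) m (ρA τ z)).toMul =
        SGA7.galAct τ (AbDual.TateMod.component A l (SGA7.pt Ω) m z).toMul)
    (ρB : (Ω ≃ₐ[k] Ω) → Module.End ℤ_[l] (AbDual.TateMod B l (SGA7.pt Ω)))
    (hB : ∀ (τ : Ω ≃ₐ[k] Ω) (z : AbDual.TateMod B l (SGA7.pt Ω)) (m : ℕ),
      (AbDual.TateMod.component B l (SGA7.pt Ω) m (ρB τ z)).toMul =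
        SGA7.galAct τ (AbDual.TateMod.component B l (SGA7.pt Ω) m z).toMul)
    (f : A ⟶ B) [IsMonHom f] (τ : Ω ≃ₐ[k] Ω) : (tM f) ∘ₗ ρA τ = ρB τ ∘ₗ (tM f) := by
  refine LinearMap.ext fun z => AbDual.TateMod.ext fun m => Additive.toMul.injective ?_
  show (AbDual.TateMod.component A l (SGA7.pt Ω) m (ρA τ z)).toMul ≫ f =
    (AbDual.TateMod.component B l (SGA7.pt Ω) m (ρB τ ((tM f) z))).toMul
  rw [hA, hB]
  exact Category.assoc _ _ _

variable [IsAlgClosure k Ω] (hl : (l : k) ≠ 0)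
  (hFin : ∀ (Z : Over (Spec (CommRingCat.of k))) [GrpObj Z] [IsCommMonObj Z] [IsProper Z.hom] [GeometricallyIntegral Z.hom],
      ∃ (J : Type u) (_ : Finite J) (F : J → Over (Spec (CommRingCat.of k))),
        ∀ (Y : Over (Spec (CommRingCat.of k))) [GrpObj Y] [IsCommMonObj Y] [IsProper Y.hom] [GeometricallyIntegral Y.hom]
          (u : Z ⟶ Y) [IsMonHom u] (v : Y ⟶ Z) [IsMonHom v] (m : ℕ),
          u ≫ v = (𝟙 Z) ^ (l ^ m) → v ≫ u = (𝟙 Y) ^ (l ^ m) → ∃ i, Nonempty (Y ≅ F i))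
  (X : Over (Spec (CommRingCat.of k)))
  [GrpObj X] [IsCommMonObj X] [IsProper X.hom] [GeometricallyIntegral X.hom]
  (ρ : (Ω ≃ₐ[k] Ω) → Module.End ℤ_[l] (AbDual.TateMod X l (SGA7.pt Ω)))
  (hρ : ∀ (τ : Ω ≃ₐ[k] Ω) (z : AbDual.TateMod X l (SGA7.pt Ω)) (m : ℕ),
      (AbDual.TateMod.component X l (SGA7.pt Ω) m (ρ τ z)).toMul =
        SGA7.galAct τ (AbDual.TateMod.component X l (SGA7.pt Ω) m z).toMul)

include hρ in
/-- Galois commutes with the span of the endomorphisms. -/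
theorem endSpan_comm {ψ : Module.End ℚ_[l] (V l (SGA7.pt Ω) X)} (hψ : ψ ∈ endSpan l (SGA7.pt Ω) X)
    (τ : Ω ≃ₐ[k] Ω) : ψ ∘ₗ (ρ τ).baseChange ℚ_[l] = (ρ τ).baseChange ℚ_[l] ∘ₗ ψ := by
  induction hψ using Submodule.span_induction with
  | mem ψ h =>
    obtain ⟨f, hf, rfl⟩ := h
    rw [← LinearMap.baseChange_comp, ← LinearMap.baseChange_comp, galois_comm ρ hρ ρ hρ f τ]
  | zero => rw [LinearMap.zero_comp, LinearMap.comp_zero]
  | add a b _ _ ha hb => rw [LinearMap.add_comp, LinearMap.comp_add, ha, hb]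
  | smul c a _ ha => rw [LinearMap.smul_comp, LinearMap.comp_smul, ha]

include hl hFin hρ in
/-- Galois stable subspaces have Galois stable complements. -/
theorem exists_compl [Module.Free ℤ_[l] (AbDual.TateMod X l (SGA7.pt Ω))] [Module.Finite ℤ_[l] (AbDual.TateMod X l (SGA7.pt Ω))]
    (W : Submodule ℚ_[l] (V l (SGA7.pt Ω) X)) (hW : ∀ τ : Ω ≃ₐ[k] Ω, W.map ((ρ τ).baseChange ℚ_[l]) ≤ W) :
    ∃ W' : Submodule ℚ_[l] (V l (SGA7.pt Ω) X), IsCompl W W' ∧ ∀ τ : Ω ≃ₐ[k] Ω, W'.map ((ρ τ).baseChange ℚ_[l]) ≤ W' := by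
  obtain ⟨u, hu, hur⟩ := Groth.Agent.S16851.result k Ω l hl X (hFin X) ρ hρ W hW
  obtain ⟨E, hE, hEs⟩ := exists_subalgebra l (SGA7.pt Ω) X
  have huE : u ∈ E := by
    rw [← Subalgebra.mem_toSubmodule, hEs]
    exact hu
  obtain ⟨e, he, hI⟩ := IsSemisimpleRing.ideal_eq_span_idempotent (Ideal.span {(⟨u, huE⟩ : E)})
  obtain ⟨a, ha⟩ := Ideal.mem_span_singleton'.1 (hI.ge (Ideal.mem_span_singleton_self e))
  obtain ⟨b, hb⟩ := Ideal.mem_span_singleton'.1 (hI.le (Ideal.mem_span_singleton_self (⟨u, huE⟩ : E)))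
  have hue : (⟨u, huE⟩ : E) * e = ⟨u, huE⟩ := by rw [← hb, mul_assoc, he.eq]
  have huau : u * a.1 * u = u := by
    have h := congrArg Subtype.val hue
    rw [← ha] at h
    simpa [mul_assoc] using h
  let p : Module.End ℚ_[l] (V l (SGA7.pt Ω) X) := u * a.1
  have hpi : IsIdempotentElem p := by
    show u * a.1 * (u * a.1) = u * a.1
    rw [← mul_assoc, huau]
  have hrange : LinearMap.range p = W := by
    rw [← hur]
    refine le_antisymm (LinearMap.range_comp_le_range _ _) ?_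
    rintro _ ⟨v, rfl⟩
    exact ⟨u v, congrArg (fun f : Module.End ℚ_[l] (V l (SGA7.pt Ω) X) => f v) huau⟩
  refine ⟨LinearMap.ker p, ?_, fun τ => ?_⟩
  · rw [← hrange]
    exact LinearMap.IsIdempotentElem.isCompl hpi
  · rintro _ ⟨v, hv, rfl⟩
    have hp : p ∈ endSpan l (SGA7.pt Ω) X := by
      rw [← hEs, Subalgebra.mem_toSubmodule]
      exact mul_mem huE a.2
    have h := LinearMap.congr_fun (endSpan_comm X ρ hρ hp τ) v
    rw [SetLike.mem_coe, LinearMap.mem_ker] at hv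
    rw [LinearMap.mem_ker]
    rw [LinearMap.comp_apply, LinearMap.comp_apply, hv, map_zero] at h
    exact h

omit [IsAlgClosure k Ω] in
theorem tateMap_comp {A B D : Over (Spec (CommRingCat.of k))} [GrpObj A] [IsCommMonObj A] [GrpObj B] [IsCommMonObj B]
    [GrpObj D] [IsCommMonObj D] (f : A ⟶ B) (g : B ⟶ D) [IsMonHom f] [IsMonHom g] :
    (tM g) ∘ₗ (tM f) = (tM (f ≫ g)) :=
  LinearMap.ext fun _ => AbDual.TateMod.ext fun _ => congrArg Additive.ofMul (Category.assoc _ _ _)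

include hl hFin hρ in
/-- Galois equivariant endomorphisms are combinations of endomorphisms. -/
theorem mem_span [Module.Free ℤ_[l] (AbDual.TateMod X l (SGA7.pt Ω))] [Module.Finite ℤ_[l] (AbDual.TateMod X l (SGA7.pt Ω))]
    (φ : Module.End ℚ_[l] (V l (SGA7.pt Ω) X))
    (hφ : ∀ τ : Ω ≃ₐ[k] Ω, φ ∘ₗ (ρ τ).baseChange ℚ_[l] = (ρ τ).baseChange ℚ_[l] ∘ₗ φ) :
    φ ∈ endSpan l (SGA7.pt Ω) X := by
  obtain ⟨hP1, hP2⟩ := Groth.Agent.Poincare.Adjoint.prod_instances X X
  haveI := hP1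
  haveI := hP2
  let i₁ : X ⟶ X ⊗ X := lift (𝟙 X) 1
  let i₂ : X ⟶ X ⊗ X := lift 1 (𝟙 X)
  haveI : IsMonHom i₁ := Groth.Agent.AV.isMonHom_of_one _ (by
    apply CartesianMonoidalCategory.hom_ext
    · rw [Category.assoc, lift_fst, Category.comp_id, IsMonHom.one_hom (fst X X)]
    · rw [Category.assoc, lift_snd, MonObj.comp_one, IsMonHom.one_hom (snd X X), MonObj.one_eq_one])
  haveI : IsMonHom i₂ := Groth.Agent.AV.isMonHom_of_one _ (by
    apply CartesianMonoidalCategory.hom_ext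
    · rw [Category.assoc, lift_fst, MonObj.comp_one, IsMonHom.one_hom (fst X X), MonObj.one_eq_one]
    · rw [Category.assoc, lift_snd, Category.comp_id, IsMonHom.one_hom (snd X X)])
  let p₁ := (tM (fst X X))
  let p₂ := (tM (snd X X))
  let j₁ := (tM i₁)
  let j₂ := (tM i₂)
  have h11 : p₁ ∘ₗ j₁ = LinearMap.id := LinearMap.ext fun z => AbDual.TateMod.ext fun n => Additive.toMul.injective (by
    show (((AbDual.TateMod.component X l (SGA7.pt Ω) n z).toMul ≫ i₁) ≫ fst X X) =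
      (AbDual.TateMod.component X l (SGA7.pt Ω) n z).toMul
    rw [Category.assoc, lift_fst, Category.comp_id])
  have h22 : p₂ ∘ₗ j₂ = LinearMap.id := LinearMap.ext fun z => AbDual.TateMod.ext fun n => Additive.toMul.injective (by
    show (((AbDual.TateMod.component X l (SGA7.pt Ω) n z).toMul ≫ i₂) ≫ snd X X) =
      (AbDual.TateMod.component X l (SGA7.pt Ω) n z).toMul
    rw [Category.assoc, lift_snd, Category.comp_id])
  have h12 : p₁ ∘ₗ j₂ = 0 := LinearMap.ext fun z => AbDual.TateMod.ext fun n => Additive.toMul.injective (by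
    show (((AbDual.TateMod.component X l (SGA7.pt Ω) n z).toMul ≫ i₂) ≫ fst X X) = 1
    rw [Category.assoc, lift_fst, MonObj.comp_one])
  have h21 : p₂ ∘ₗ j₁ = 0 := LinearMap.ext fun z => AbDual.TateMod.ext fun n => Additive.toMul.injective (by
    show (((AbDual.TateMod.component X l (SGA7.pt Ω) n z).toMul ≫ i₁) ≫ snd X X) = 1
    rw [Category.assoc, lift_snd, MonObj.comp_one])
  have hsum : j₁ ∘ₗ p₁ + j₂ ∘ₗ p₂ = LinearMap.id := LinearMap.ext fun z => AbDual.TateMod.ext fun n => Additive.toMul.injective (by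
    show ((AbDual.TateMod.component (X ⊗ X) l (SGA7.pt Ω) n z).toMul ≫ fst X X) ≫ i₁ *
      (((AbDual.TateMod.component (X ⊗ X) l (SGA7.pt Ω) n z).toMul ≫ snd X X) ≫ i₂) =
      (AbDual.TateMod.component (X ⊗ X) l (SGA7.pt Ω) n z).toMul
    apply CartesianMonoidalCategory.hom_ext
    · rw [MonObj.mul_comp, Category.assoc, Category.assoc, Category.assoc, Category.assoc, lift_fst, lift_fst,
        Category.comp_id, MonObj.comp_one, MonObj.comp_one, mul_one]
    · rw [MonObj.mul_comp, Category.assoc, Category.assoc, Category.assoc, Category.assoc, lift_snd, lift_snd,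
        Category.comp_id, MonObj.comp_one, MonObj.comp_one, one_mul])
  let eT : AbDual.TateMod (X ⊗ X) l (SGA7.pt Ω) ≃ₗ[ℤ_[l]]
      AbDual.TateMod X l (SGA7.pt Ω) × AbDual.TateMod X l (SGA7.pt Ω) :=
    LinearEquiv.ofLinearMap (p₁.prod p₂) (j₁.coprod j₂)
      (LinearMap.ext fun z => Prod.ext (by
        have a := LinearMap.congr_fun h11 z.1
        have b := LinearMap.congr_fun h12 z.2
        simp only [LinearMap.comp_apply, LinearMap.id_apply, LinearMap.zero_apply] at a b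
        simp [a, b]) (by
        have a := LinearMap.congr_fun h21 z.1
        have b := LinearMap.congr_fun h22 z.2
        simp only [LinearMap.comp_apply, LinearMap.id_apply, LinearMap.zero_apply] at a b
        simp [a, b]))
      (LinearMap.ext fun z => LinearMap.congr_fun hsum z)
  haveI : Module.Free ℤ_[l] (AbDual.TateMod (X ⊗ X) l (SGA7.pt Ω)) := Module.Free.of_equiv eT.symm
  haveI : Module.Finite ℤ_[l] (AbDual.TateMod (X ⊗ X) l (SGA7.pt Ω)) := Module.Finite.equiv eT.symm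
  let ρP : (Ω ≃ₐ[k] Ω) → Module.End ℤ_[l] (AbDual.TateMod (X ⊗ X) l (SGA7.pt Ω)) := fun τ =>
    j₁ ∘ₗ ρ τ ∘ₗ p₁ + j₂ ∘ₗ ρ τ ∘ₗ p₂
  have hc1 : ∀ τ, p₁ ∘ₗ ρP τ = ρ τ ∘ₗ p₁ := fun τ => by
    simp only [ρP, LinearMap.comp_add, ← LinearMap.comp_assoc, h11, h12, LinearMap.id_comp, LinearMap.zero_comp, add_zero]
  have hc2 : ∀ τ, p₂ ∘ₗ ρP τ = ρ τ ∘ₗ p₂ := fun τ => by
    simp only [ρP, LinearMap.comp_add, ← LinearMap.comp_assoc, h21, h22, LinearMap.id_comp, LinearMap.zero_comp, zero_add]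
  have hρP : ∀ (τ : Ω ≃ₐ[k] Ω) (z : AbDual.TateMod (X ⊗ X) l (SGA7.pt Ω)) (m : ℕ),
      (AbDual.TateMod.component (X ⊗ X) l (SGA7.pt Ω) m (ρP τ z)).toMul =
        SGA7.galAct τ (AbDual.TateMod.component (X ⊗ X) l (SGA7.pt Ω) m z).toMul := by
    intro τ z m
    apply CartesianMonoidalCategory.hom_ext
    · have h := congrArg (fun t => (AbDual.TateMod.component X l (SGA7.pt Ω) m t).toMul) (LinearMap.congr_fun (hc1 τ) z)
      refine h.trans ((hρ τ (p₁ z) m).trans ?_)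
      exact (Category.assoc _ _ _).symm
    · have h := congrArg (fun t => (AbDual.TateMod.component X l (SGA7.pt Ω) m t).toMul) (LinearMap.congr_fun (hc2 τ) z)
      refine h.trans ((hρ τ (p₂ z) m).trans ?_)
      exact (Category.assoc _ _ _).symm
  let P₁ := p₁.baseChange ℚ_[l]
  let P₂ := p₂.baseChange ℚ_[l]
  let J₁ := j₁.baseChange ℚ_[l]
  let J₂ := j₂.baseChange ℚ_[l]
  let WP : Submodule ℚ_[l] (V l (SGA7.pt Ω) (X ⊗ X)) := LinearMap.ker (P₂ - φ ∘ₗ P₁)
  have hWP : ∀ τ, WP.map ((ρP τ).baseChange ℚ_[l]) ≤ WP := by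
    rintro τ _ ⟨v, hv, rfl⟩
    have h : (P₂ - φ ∘ₗ P₁) ∘ₗ (ρP τ).baseChange ℚ_[l] = (ρ τ).baseChange ℚ_[l] ∘ₗ (P₂ - φ ∘ₗ P₁) := by
      simp only [P₁, P₂]
      rw [LinearMap.sub_comp, LinearMap.comp_assoc, ← LinearMap.baseChange_comp, ← LinearMap.baseChange_comp, hc1, hc2,
        LinearMap.baseChange_comp, LinearMap.baseChange_comp, ← LinearMap.comp_assoc, hφ, LinearMap.comp_assoc,
        LinearMap.comp_sub]
    rw [SetLike.mem_coe, LinearMap.mem_ker] at hv
    rw [LinearMap.mem_ker, ← LinearMap.comp_apply, h, LinearMap.comp_apply, hv, map_zero]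
  obtain ⟨u, hu, hur⟩ := Groth.Agent.S16851.result k Ω l hl (X ⊗ X) (hFin (X ⊗ X)) ρP hρP WP hWP
  have hentry : ∀ (a : X ⊗ X ⟶ X) [IsMonHom a] (b : X ⟶ X ⊗ X) [IsMonHom b],
      (tM a).baseChange ℚ_[l] ∘ₗ u ∘ₗ (tM b).baseChange ℚ_[l] ∈ endSpan l (SGA7.pt Ω) X := by
    intro a _ b _
    clear hur
    induction hu using Submodule.span_induction with
    | mem ψ h =>
      obtain ⟨f, hf, rfl⟩ := h
      refine Submodule.subset_span ⟨b ≫ f ≫ a, inferInstance, ?_⟩
      rw [← LinearMap.baseChange_comp, ← LinearMap.baseChange_comp, tateMap_comp, tateMap_comp]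
      congr 2
    | zero => rw [LinearMap.zero_comp, LinearMap.comp_zero]; exact zero_mem _
    | add a b _ _ ha hb => rw [LinearMap.add_comp, LinearMap.comp_add]; exact add_mem ha hb
    | smul c v _ ha =>
      convert Submodule.smul_mem _ c ha using 1
      exact LinearMap.ext fun y => map_smul ((tM a).baseChange ℚ_[l]) c _
  obtain ⟨E, hE, hEs⟩ := exists_subalgebra l (SGA7.pt Ω) X
  have hmemE : ∀ {ψ}, ψ ∈ endSpan l (SGA7.pt Ω) X → ψ ∈ E := fun h => by
    rwa [← Subalgebra.mem_toSubmodule, hEs]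
  have hB11 : P₁ ∘ₗ J₁ = LinearMap.id := by rw [← LinearMap.baseChange_comp, h11, LinearMap.baseChange_id]
  have hB12 : P₁ ∘ₗ J₂ = 0 := by rw [← LinearMap.baseChange_comp, h12, LinearMap.baseChange_zero]
  have hB21 : P₂ ∘ₗ J₁ = 0 := by rw [← LinearMap.baseChange_comp, h21, LinearMap.baseChange_zero]
  have hB22 : P₂ ∘ₗ J₂ = LinearMap.id := by rw [← LinearMap.baseChange_comp, h22, LinearMap.baseChange_id]
  have hBsum : J₁ ∘ₗ P₁ + J₂ ∘ₗ P₂ = LinearMap.id := by
    rw [← LinearMap.baseChange_comp, ← LinearMap.baseChange_comp, ← LinearMap.baseChange_add, hsum, LinearMap.baseChange_id]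
  let u11 := P₁ ∘ₗ u ∘ₗ J₁
  let u12 := P₁ ∘ₗ u ∘ₗ J₂
  let u21 := P₂ ∘ₗ u ∘ₗ J₁
  let u22 := P₂ ∘ₗ u ∘ₗ J₂
  have hgraph : ∀ a b, φ (u11 a + u12 b) = u21 a + u22 b := by
    intro a b
    have h : u (J₁ a + J₂ b) ∈ WP := by rw [← hur]; exact LinearMap.mem_range_self _ _
    rw [LinearMap.mem_ker, LinearMap.sub_apply, LinearMap.comp_apply, sub_eq_zero] at h
    simp only [map_add] at h
    simp only [u11, u12, u21, u22, LinearMap.comp_apply, map_add]
    exact h.symm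
  have honto : ∀ x, ∃ a b, u11 a + u12 b = x := by
    intro x
    have h : J₁ x + J₂ (φ x) ∈ WP := by
      have a1 := LinearMap.congr_fun hB11 x
      have a2 := LinearMap.congr_fun hB12 (φ x)
      have a3 := LinearMap.congr_fun hB21 x
      have a4 := LinearMap.congr_fun hB22 (φ x)
      simp only [LinearMap.comp_apply, LinearMap.id_apply, LinearMap.zero_apply] at a1 a2 a3 a4
      rw [LinearMap.mem_ker, LinearMap.sub_apply, LinearMap.comp_apply, sub_eq_zero]
      simp only [map_add, a1, a2, a3, a4, zero_add, add_zero]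
    rw [← hur] at h
    obtain ⟨w, hw⟩ := h
    refine ⟨P₁ w, P₂ w, ?_⟩
    have a0 := LinearMap.congr_fun hBsum w
    simp only [LinearMap.add_apply, LinearMap.comp_apply, LinearMap.id_apply] at a0
    simp only [u11, u12, LinearMap.comp_apply, ← map_add, a0, hw]
    have a1 := LinearMap.congr_fun hB11 x
    have a2 := LinearMap.congr_fun hB12 (φ x)
    simp only [LinearMap.comp_apply, LinearMap.id_apply, LinearMap.zero_apply] at a1 a2
    rw [map_add, a1, a2, add_zero]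
  have hbi : ∀ (c : Module.End E (V l (SGA7.pt Ω) X)) (x), φ (c x) = c (φ x) := by
    intro c x
    have hc : ∀ ψ : Module.End ℚ_[l] (V l (SGA7.pt Ω) X), ψ ∈ endSpan l (SGA7.pt Ω) X → ∀ y, c (ψ y) = ψ (c y) :=
      fun ψ hψ y => c.map_smul ⟨ψ, hmemE hψ⟩ y
    obtain ⟨a, b, rfl⟩ := honto x
    rw [hgraph, map_add c, map_add c, hc u11 (hentry _ _), hc u12 (hentry _ _), hgraph,
      hc u21 (hentry _ _), hc u22 (hentry _ _)]
  obtain ⟨s, hs⟩ := Module.Finite.fg_top (R := ℚ_[l]) (M := V l (SGA7.pt Ω) X)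
  obtain ⟨r, hr⟩ := jacobson_density (R := E) (M := V l (SGA7.pt Ω) X)
    { toFun := φ, map_add' := φ.map_add, map_smul' := fun c x => hbi c x } s
  have hφr : φ = r.1 := LinearMap.ext_on hs fun m hm => hr m hm
  rw [← hEs, Subalgebra.mem_toSubmodule, hφr]
  exact r.2

end Groth.Agent.Tate.Theorem
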